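import Mathlib

/-!
An additive map into `ZMod p → ZMod p` commuting with the shift is onto as soon as some value
has nonzero sum.
-/

namespace Cfsg.Agent.Lib.WreathImage

open MonoidAlgebra

variable {p : ℕ} [Fact p.Prime] {M : Type*} [AddCommGroup M]

/-- The group algebra element of a function. -/
noncomputable def toAlg (p : ℕ) [Fact p.Prime] :
    (ZMod p → ZMod p) →+ MonoidAlgebra (ZMod p) (Multiplicative (ZMod p)) where
  toFun f := ∑ i, single (Multiplicative.ofAdd i) (f i)
  map_zero' := by simp
  map_add' f g := by simp [Finset.sum_add_distrib, single_add]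

theorem toAlg_apply (f : ZMod p → ZMod p) :
    toAlg p f = ∑ i, single (Multiplicative.ofAdd i) (f i) := rfl

theorem toAlg_shift (f : ZMod p → ZMod p) :
    toAlg p (fun i => f (i + 1)) = single (Multiplicative.ofAdd (-1 : ZMod p)) 1 * toAlg p f := by
  rw [toAlg_apply, toAlg_apply, Finset.mul_sum]
  refine Fintype.sum_equiv (Equiv.addRight (1 : ZMod p)) _ _ fun i => ?_
  rw [single_mul_single, one_mul, ← ofAdd_add]
  simp

theorem surjective_of_shift (Φ : M →+ (ZMod p → ZMod p)) (s : M → M)
    (hs : ∀ a i, Φ (s a) i = Φ a (i + 1)) {x : M} (hx : ∑ i, Φ x i ≠ 0) :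
    Function.Surjective Φ := by
  classical
  let R := MonoidAlgebra (ZMod p) (Multiplicative (ZMod p))
  haveI : CharP R p := charP_of_injective_algebraMap
    (algebraMap (ZMod p) R).injective p
  let Ψ : M →+ R := (toAlg p).comp Φ
  let S : AddSubgroup R := Ψ.range
  set g : R := single (Multiplicative.ofAdd (-1 : ZMod p)) 1 with hg
  have hshift : ∀ r ∈ S, g * r ∈ S := by
    rintro _ ⟨a, rfl⟩
    refine ⟨s a, ?_⟩
    show toAlg p (Φ (s a)) = _
    rw [show Φ (s a) = fun i => Φ a (i + 1) from funext (hs a)]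
    exact toAlg_shift _
  have hpow : ∀ n : ℕ, ∀ r ∈ S, g ^ n * r ∈ S := by
    intro n
    induction n with
    | zero => intro r hr; simpa using hr
    | succ n ih => intro r hr; rw [pow_succ', mul_assoc]; exact hshift _ (ih r hr)
  have hideal : ∀ t r : R, r ∈ S → t * r ∈ S := by
    intro t r hr
    induction t using MonoidAlgebra.induction_linear with
    | zero => rw [zero_mul]; exact S.zero_mem
    | add a b ha hb => rw [add_mul]; exact S.add_mem ha hb
    | single m c =>
      have hm : single m c = c.val • g ^ (-(Multiplicative.toAdd m)).val := by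
        rw [hg, single_pow, one_pow, ← ofAdd_nsmul, smul_single, nsmul_one]
        simp
      rw [hm, smul_mul_assoc]
      exact S.nsmul_mem (hpow _ r hr) _
  have hunit : IsUnit (Ψ x) := by
    refine IsUnit.of_pow_eq_one (n := p * (p - 1)) ?_ (Nat.mul_ne_zero (Fact.out : p.Prime).ne_zero
      (by have := (Fact.out : p.Prime).two_le; omega))
    rw [pow_mul]
    have h1 : Ψ x ^ p = single 1 (∑ i, Φ x i) := by
      show (toAlg p (Φ x)) ^ p = _
      rw [toAlg_apply, sum_pow_char]
      refine Eq.trans ?_ (map_sum (singleAddHom (1 : Multiplicative (ZMod p))) _ _).symm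
      refine Finset.sum_congr rfl fun i _ => ?_
      rw [single_pow, ZMod.pow_card, ← ofAdd_nsmul, nsmul_eq_mul, ZMod.natCast_self, zero_mul]
      rfl
    rw [h1, single_pow, one_pow, ZMod.pow_card_sub_one_eq_one hx]
    rfl
  intro f
  obtain ⟨u, hu⟩ := hunit
  obtain ⟨a, ha⟩ : toAlg p f ∈ S := by
    have := hideal (toAlg p f * ((u⁻¹ : Rˣ) : R)) (Ψ x) ⟨x, rfl⟩
    rwa [mul_assoc, ← hu, Units.inv_mul, mul_one] at this
  refine ⟨a, funext fun j => ?_⟩
  have h2 := congrArg (fun r : R => r.coeff (Multiplicative.ofAdd j)) ha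
  have key : ∀ f : ZMod p → ZMod p, (toAlg p f).coeff (Multiplicative.ofAdd j) = f j := by
    intro f
    rw [toAlg_apply, coeff_sum, Finsupp.finset_sum_apply]
    simp [coeff_single, Finsupp.single_apply]
  exact (key _).symm.trans (h2.trans (key f))

end Cfsg.Agent.Lib.WreathImage
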