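import Mathlib
import Cfsg.Prelude.Def_PLocal
import Cfsg.Agent.Lib.WreathImage.Shift
import Cfsg.Agent.Lib.PGroup.ElemAbelian

/-!
A `p`-group with an elementary abelian subgroup of index `p` and a nontrivial norm maps onto a
Sylow subgroup of the symmetric group of degree `p ^ 2`.
-/

namespace Cfsg.Agent.Lib.WreathImage

theorem exists_hom_eq_one {M : Type*} [AddCommGroup M] {p : ℕ} [Fact p.Prime]
    [Module (ZMod p) M] {v : M} (hv : v ≠ 0) : ∃ φ : M →+ ZMod p, φ v = 1 := by
  obtain ⟨φ, hφ⟩ := Module.Projective.exists_dual_eq_one (ZMod p) hv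
  exact ⟨φ.toAddMonoidHom, hφ⟩

variable {P : Type*} [Group P] [Finite P] {p : ℕ} [Fact p.Prime]

theorem exists_surjective_sylow (hP : IsPGroup p P) (A : Subgroup P) [A.Normal]
    (hA : Cfsg.IsElementaryAbelian p A) (hidx : A.index = p) (x y : P) (hx : x ∈ A) (hy : y ∉ A)
    (hprod : ((List.range p).map (fun i => (y ^ i)⁻¹ * x * y ^ i)).prod ≠ 1) :
    ∃ (Q : Sylow p (Equiv.Perm (Fin (p ^ 2))))
      (f : P →* ↥(Q : Subgroup (Equiv.Perm (Fin (p ^ 2))))), Function.Surjective f := by
  classical
  have hcomm : ∀ a b : A, a * b = b * a := fun a b => Subtype.ext (ElemAbelian.comm hA a.2 b.2)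
  letI : CommGroup A := { (inferInstance : Group A) with mul_comm := hcomm }
  have hpz : ∀ v : Additive A, p • v = 0 := by
    intro v
    refine Additive.toMul.injective (Subtype.ext ?_)
    rw [toMul_nsmul]
    exact hA.2 _ (Additive.toMul v).2
  let c : ℕ → A → A := fun n a =>
    ⟨(y ^ n)⁻¹ * (a : P) * y ^ n, by
      simpa using (inferInstance : A.Normal).conj_mem _ a.2 (y ^ n)⁻¹⟩
  have hyp : y ^ p ∈ A := by
    rw [← hidx]
    exact A.pow_index_mem y
  have hperiod : ∀ (n : ℕ) (a : A), c (n + p) a = c n a := by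
    intro n a
    refine Subtype.ext ?_
    show (y ^ (n + p))⁻¹ * (a : P) * y ^ (n + p) = (y ^ n)⁻¹ * (a : P) * y ^ n
    have hc : (y ^ p)⁻¹ * (a : P) * y ^ p = a := by
      rw [mul_assoc, ElemAbelian.comm hA a.2 hyp, inv_mul_cancel_left]
    calc (y ^ (n + p))⁻¹ * (a : P) * y ^ (n + p)
        = (y ^ n)⁻¹ * ((y ^ p)⁻¹ * (a : P) * y ^ p) * y ^ n := by
          rw [show n + p = p + n from add_comm n p, pow_add]; group
      _ = _ := by rw [hc]
  have hmod : ∀ (n : ℕ) (a : A), c n a = c (n % p) a := by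
    intro n a
    conv_lhs => rw [← Nat.mod_add_div n p]
    induction n / p with
    | zero => simp
    | succ k ih => rw [Nat.mul_succ, ← add_assoc, hperiod, ih]
  -- a functional not vanishing on the norm
  set ν : Additive A := ∑ i ∈ Finset.range p, Additive.ofMul (c i ⟨x, hx⟩) with hν
  have hν0 : ν ≠ 0 := by
    intro h0
    refine hprod ?_
    have h1 : ∀ n : ℕ, ((Additive.toMul (∑ i ∈ Finset.range n, Additive.ofMul (c i ⟨x, hx⟩)) : A) : P) =
        ((List.range n).map (fun i => (y ^ i)⁻¹ * x * y ^ i)).prod := by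
      intro n
      induction n with
      | zero => rfl
      | succ n ih =>
        rw [Finset.sum_range_succ, List.range_succ, List.map_append, List.prod_append, toMul_add,
          Subgroup.coe_mul, ih]
        simp [c]
    rw [← h1, ← hν, h0]
    rfl
  obtain ⟨φ, hφ⟩ : ∃ φ : Additive A →+ ZMod p, φ ν = 1 :=
    @exists_hom_eq_one (Additive A) _ p _ (AddCommGroup.zmodModule hpz) ν hν0
  -- the point stabiliser
  let B₀ : Subgroup A :=
    { carrier := {a | φ (Additive.ofMul a) = 0}
      one_mem' := map_zero φ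
      mul_mem' := fun {a b} ha hb => by
        show φ (Additive.ofMul a + Additive.ofMul b) = 0
        rw [map_add]
        simp only [Set.mem_setOf_eq] at ha hb
        rw [ha, hb, add_zero]
      inv_mem' := fun {a} ha => by
        show φ (-Additive.ofMul a) = 0
        rw [map_neg]
        simp only [Set.mem_setOf_eq] at ha
        rw [ha, neg_zero] }
  have hB₀ : B₀.index = p := by
    let ψ : A →* Multiplicative (ZMod p) := AddMonoidHom.toMultiplicativeRight φ
    have hker : ψ.ker = B₀ := rfl
    have hsurj : Function.Surjective ψ := fun w => by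
      refine ⟨Additive.toMul ((Multiplicative.toAdd w).val • ν), ?_⟩
      refine Multiplicative.toAdd.injective ?_
      show φ ((Multiplicative.toAdd w).val • ν) = _
      rw [map_nsmul, hφ, nsmul_one, ZMod.natCast_zmod_val]
    rw [← hker, Subgroup.index_ker, MonoidHom.range_eq_top.mpr hsurj, Subgroup.card_top,
      Nat.card_congr Multiplicative.toAdd, Nat.card_zmod]
  set B := B₀.map A.subtype with hB
  have hBidx : B.index = p ^ 2 := by rw [hB, Subgroup.index_map_subtype, hB₀, hidx, sq]
  have hcardX : Nat.card (P ⧸ B) = p ^ 2 := hBidx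
  let e : P ⧸ B ≃ Fin (p ^ 2) := Finite.equivFinOfCardEq hcardX
  let f₀ : P →* Equiv.Perm (Fin (p ^ 2)) :=
    (e.permCongrHom : Equiv.Perm (P ⧸ B) ≃* Equiv.Perm (Fin (p ^ 2))).toMonoidHom.comp
      (MulAction.toPermHom P (P ⧸ B))
  have hfix : ∀ g : P, f₀ g = 1 → ∀ q : P, q⁻¹ * g * q ∈ B := by
    intro g hg q
    have h1 : MulAction.toPermHom P (P ⧸ B) g = 1 :=
      (e.permCongrHom).injective (by rw [map_one]; exact hg)
    have h2 : g • (QuotientGroup.mk q : P ⧸ B) = QuotientGroup.mk q :=
      congrArg (fun σ : Equiv.Perm (P ⧸ B) => σ (QuotientGroup.mk q)) h1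
    rw [MulAction.Quotient.smul_mk, QuotientGroup.eq, smul_eq_mul] at h2
    have h3 := B.inv_mem h2
    rw [mul_inv_rev, inv_inv, ← mul_assoc] at h3
    exact h3
  -- the coordinates of `A`
  let Φ : Additive A →+ (ZMod p → ZMod p) :=
    { toFun := fun a i => φ (Additive.ofMul (c i.val (Additive.toMul a)))
      map_zero' := funext fun i => by
        have h0 : c i.val (1 : A) = 1 := Subtype.ext (by simp [c])
        show φ (Additive.ofMul (c i.val (1 : A))) = 0
        rw [h0, ofMul_one, map_zero]
      map_add' := fun a b => funext fun i => by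
        have : c i.val (Additive.toMul (a + b)) =
            c i.val (Additive.toMul a) * c i.val (Additive.toMul b) := Subtype.ext (by
          show (y ^ i.val)⁻¹ * (((Additive.toMul a : A) : P) * (Additive.toMul b : A)) * y ^ i.val =
            ((y ^ i.val)⁻¹ * ((Additive.toMul a : A) : P) * y ^ i.val) *
              ((y ^ i.val)⁻¹ * ((Additive.toMul b : A) : P) * y ^ i.val)
          group)
        show φ (Additive.ofMul (c i.val (Additive.toMul (a + b)))) = _
        rw [this, ofMul_mul, map_add]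
        rfl }
  have hΦ : Function.Surjective Φ := by
    refine surjective_of_shift Φ (fun a => Additive.ofMul (c 1 (Additive.toMul a))) ?_
      (x := Additive.ofMul ⟨x, hx⟩) ?_
    · intro a i
      show φ (Additive.ofMul (c i.val (c 1 (Additive.toMul a)))) =
        φ (Additive.ofMul (c (i + 1).val (Additive.toMul a)))
      congr 2
      rw [ZMod.val_add, ZMod.val_one]
      rw [← hmod]
      refine Subtype.ext ?_
      show (y ^ i.val)⁻¹ * ((y ^ 1)⁻¹ * ((Additive.toMul a : A) : P) * y ^ 1) * y ^ i.val =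
        (y ^ (i.val + 1))⁻¹ * ((Additive.toMul a : A) : P) * y ^ (i.val + 1)
      rw [show i.val + 1 = 1 + i.val from add_comm _ _, pow_add]
      group
    · rw [show ∑ i, Φ (Additive.ofMul ⟨x, hx⟩) i = φ ν from ?_]
      · rw [hφ]; exact one_ne_zero
      rw [hν, map_sum]
      symm
      refine Finset.sum_bij (fun i _ => (i : ZMod p)) (fun i _ => Finset.mem_univ _) ?_ ?_ ?_
      · intro a ha b hb hab
        have := congrArg ZMod.val hab
        rwa [ZMod.val_natCast, ZMod.val_natCast, Nat.mod_eq_of_lt (Finset.mem_range.mp ha),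
          Nat.mod_eq_of_lt (Finset.mem_range.mp hb)] at this
      · exact fun j _ => ⟨j.val, Finset.mem_range.mpr j.val_lt, ZMod.natCast_zmod_val j⟩
      · intro i hi
        show _ = φ (Additive.ofMul (c (i : ZMod p).val ⟨x, hx⟩))
        rw [ZMod.val_natCast, Nat.mod_eq_of_lt (Finset.mem_range.mp hi)]
  -- the image is large
  have hlarge : p ^ (p + 1) ≤ Nat.card f₀.range := by
    set T := A.map f₀ with hT
    have hTcard : p ^ p ≤ Nat.card T := by
      have hker : ∀ a : A, f₀ a = 1 → Φ (Additive.ofMul a) = 0 := by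
        intro a ha
        funext i
        obtain ⟨b, hb, hbe⟩ := hfix _ ha (y ^ i.val)
        have : b = c i.val a := Subtype.ext hbe
        rw [this] at hb
        exact hb
      let F : T → (ZMod p → ZMod p) := fun t => Φ (Additive.ofMul ⟨t.2.choose, t.2.choose_spec.1⟩)
      have hF : Function.Surjective F := by
        intro w
        obtain ⟨a, ha⟩ := hΦ w
        refine ⟨⟨f₀ (Additive.toMul a : A), Subgroup.mem_map_of_mem _ (Additive.toMul a).2⟩, ?_⟩
        set t : T := ⟨f₀ (Additive.toMul a : A), Subgroup.mem_map_of_mem _ (Additive.toMul a).2⟩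
        have h1 := hker (⟨t.2.choose, t.2.choose_spec.1⟩ * (Additive.toMul a)⁻¹)
          (by rw [Subgroup.coe_mul, Subgroup.coe_inv, map_mul, map_inv, t.2.choose_spec.2,
            mul_inv_cancel])
        rw [ofMul_mul, map_add, ofMul_inv, map_neg, ← sub_eq_add_neg, sub_eq_zero] at h1
        exact h1.trans ha
      have h2 := Nat.card_le_card_of_surjective F hF
      rw [Nat.card_fun, Nat.card_zmod] at h2
      exact h2
    have hlt : T < f₀.range := by
      refine lt_of_le_of_ne (Subgroup.map_le_range f₀ A) fun he => hy ?_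
      obtain ⟨a, ha, hae⟩ : f₀ y ∈ T := he ▸ ⟨y, rfl⟩
      have h1 := hfix (a⁻¹ * y) (by rw [map_mul, map_inv, hae, inv_mul_cancel]) 1
      rw [inv_one, one_mul, mul_one] at h1
      have h2 : a⁻¹ * y ∈ A := Subgroup.map_subtype_le _ h1
      simpa using A.mul_mem ha h2
    obtain ⟨i, hi⟩ := IsPGroup.iff_card.mp ((hP.to_subgroup A).map f₀)
    obtain ⟨j, hj⟩ := IsPGroup.iff_card.mp (hP.of_surjective f₀.rangeRestrict f₀.rangeRestrict_surjective)
    have hpp := (Fact.out : p.Prime)
    have hij : i < j := by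
      refine (Nat.pow_lt_pow_iff_right hpp.one_lt).mp ?_
      rw [← hi, ← hj]
      refine lt_of_le_of_ne (Subgroup.card_le_of_le hlt.le) fun he => ?_
      exact hlt.ne (Subgroup.eq_of_le_of_card_ge hlt.le he.ge)
    have hpi : p ≤ i := (Nat.pow_le_pow_iff_right hpp.one_lt).mp (hi ▸ hTcard)
    rw [hj]
    exact Nat.pow_le_pow_right hpp.pos (by omega)
  obtain ⟨Q, hQ⟩ := (hP.of_surjective f₀.rangeRestrict f₀.rangeRestrict_surjective).exists_le_sylow
  refine ⟨Q, f₀.codRestrict (Q : Subgroup _) fun g => hQ ⟨g, rfl⟩, ?_⟩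
  have hQcard : Nat.card (Q : Subgroup (Equiv.Perm (Fin (p ^ 2)))) = p ^ (p + 1) := by
    rw [Q.card_eq_multiplicity, Nat.card_perm, Nat.card_fin, sq,
      Nat.factorization_factorial_mul Fact.out]
    congr 1
    conv_lhs => rw [show p.factorial = (p * 1).factorial by rw [mul_one]]
    rw [Nat.factorization_factorial_mul Fact.out]
    simp [add_comm]
  have heq : f₀.range = (Q : Subgroup _) :=
    Subgroup.eq_of_le_of_card_ge hQ (hQcard.le.trans hlarge)
  intro q
  obtain ⟨g, hg⟩ : (q : Equiv.Perm (Fin (p ^ 2))) ∈ f₀.range := by rw [heq]; exact q.2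
  exact ⟨g, Subtype.ext hg⟩

end Cfsg.Agent.Lib.WreathImage
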